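import Mathlib

/-!
A group of automorphisms of an abelian group of order `q²` whose Sylow subgroups have order `q` and act
quadratically with fixed group of order `q`: two Sylow subgroups have no common nontrivial fixed point.
-/

set_option autoImplicit false
set_option linter.style.haveILetI false

namespace Cfsg.Lib.Fusion.ThreeUni

variable {V : Type*} [Group V]

/-- The points fixed by a set of automorphisms. -/
def fixSub (A : Subgroup (MulAut V)) : Subgroup V where
  carrier := {v | ∀ a ∈ A, a v = v}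
  one_mem' := fun a _ => map_one a
  mul_mem' := fun {v w} hv hw a ha => by rw [map_mul, hv a ha, hw a ha]
  inv_mem' := fun {v} hv a ha => by rw [map_inv, hv a ha]

theorem fixSub_anti {A B : Subgroup (MulAut V)} (h : A ≤ B) : fixSub B ≤ fixSub A :=
  fun _ hv a ha => hv a (h ha)

theorem fixSub_sup (A B : Subgroup (MulAut V)) : fixSub (A ⊔ B) = fixSub A ⊓ fixSub B := by
  refine le_antisymm (le_inf (fixSub_anti le_sup_left) (fixSub_anti le_sup_right)) ?_
  rintro v ⟨hA, hB⟩ g hg
  have hle : A ⊔ B ≤ MulAction.stabilizer (MulAut V) v := sup_le hA hB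
  exact hle hg

/-- The standing shape of a Sylow subgroup. -/
structure Quad (q : ℕ) (P : Subgroup (MulAut V)) : Prop where
  card : Nat.card P = q
  cardFix : Nat.card (fixSub P) = q
  semireg : ∀ s ∈ P, s ≠ 1 → ∀ v, s v = v → v ∈ fixSub P
  moves : ∀ s ∈ P, ∀ v, s v * v⁻¹ ∈ fixSub P

theorem conj_map_map (B : Subgroup (MulAut V)) (s t : MulAut V) :
    (B.map (MulAut.conj s).toMonoidHom).map (MulAut.conj t).toMonoidHom =
      B.map (MulAut.conj (t * s)).toMonoidHom := by
  rw [Subgroup.map_map]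
  congr 1

theorem conj_map_one (B : Subgroup (MulAut V)) : B.map (MulAut.conj (1 : MulAut V)).toMonoidHom = B := by
  refine (congrArg B.map ?_).trans (Subgroup.map_id B)
  refine MonoidHom.ext fun x => ?_
  simp

theorem eq_bot_of_two [Finite V] (p : ℕ) [Fact p.Prime] (hab : ∀ a b : V, a * b = b * a) {q : ℕ}
    (hV : Nat.card V = q * q) (hq : ∃ k, q = p ^ k) (n : ℕ) :
    ∀ G : Subgroup (MulAut V), Nat.card G = n →
      (∀ A ≤ G, IsPGroup p A → Nat.card A ≤ q) →
      (∀ A ≤ G, IsPGroup p A → Nat.card A = q → Quad q A) →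
      ∀ P P' : Subgroup (MulAut V), P ≤ G → P' ≤ G → IsPGroup p P → IsPGroup p P' →
        Nat.card P = q → Nat.card P' = q → P ≠ P' → fixSub P ⊓ fixSub P' = ⊥ := by
  classical
  haveI : Finite (MulAut V) :=
    Finite.of_injective (fun f : MulAut V => (f : V → V)) DFunLike.coe_injective
  induction n using Nat.strong_induction_on with
  | _ n ih =>
  intro G hG hmax hgood P P' hP hP' hPp hP'p hPc hP'c hne
  by_contra hW
  -- proper pairs are excluded by induction
  have hgen : ∀ A B : Subgroup (MulAut V), A ≤ G → B ≤ G → IsPGroup p A → IsPGroup p B →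
      Nat.card A = q → Nat.card B = q → A ≠ B → fixSub A ⊓ fixSub B ≠ ⊥ → A ⊔ B = G := by
    intro A B hA hB hAp hBp hAc hBc hAB h
    by_contra hlt
    have hle : A ⊔ B ≤ G := sup_le hA hB
    have hc : Nat.card (A ⊔ B : Subgroup (MulAut V)) < n := by
      rw [← hG]
      exact lt_of_le_of_ne (Subgroup.card_le_of_le hle) fun e =>
        hlt (Subgroup.eq_of_le_of_card_ge hle e.ge)
    exact h (ih _ hc (A ⊔ B) rfl (fun C hC => hmax C (hC.trans hle))
      (fun C hC => hgood C (hC.trans hle)) A B le_sup_left le_sup_right hAp hBp hAc hBc hAB)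
  have hGeq := hgen P P' hP hP' hPp hP'p hPc hP'c hne hW
  set W := fixSub G
  have hWeq : W = fixSub P ⊓ fixSub P' := by rw [← fixSub_sup, hGeq]
  have hWne : W ≠ ⊥ := hWeq ▸ hW
  have hpair : ∀ A B : Subgroup (MulAut V), A ≤ G → B ≤ G → IsPGroup p A → IsPGroup p B →
      Nat.card A = q → Nat.card B = q → A ≠ B → fixSub A ⊓ fixSub B = W := by
    intro A B hA hB hAp hBp hAc hBc hAB
    rw [← fixSub_sup, hgen A B hA hB hAp hBp hAc hBc hAB fun h => hWne (le_bot_iff.mp
      (h ▸ le_inf (fixSub_anti hA) (fixSub_anti hB)))]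
  have hQP := hgood P hP hPp hPc
  have hQP' := hgood P' hP' hP'p hP'c
  obtain ⟨k, hk⟩ := hq
  have hqpos : 0 < q := hk ▸ pow_pos (Fact.out : p.Prime).pos k
  -- no fixed group is the whole of `W`
  have hproper : ∀ A ≤ G, IsPGroup p A → Nat.card A = q → ¬ fixSub A ≤ W := by
    intro A hA hAp hAc hle
    have hWA : W = fixSub A := le_antisymm (fixSub_anti hA) hle
    have hWc : Nat.card W = q := hWA ▸ (hgood A hA hAp hAc).cardFix
    have hPW : fixSub P = W := (Subgroup.eq_of_le_of_card_ge (fixSub_anti hP)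
      (by rw [hQP.cardFix, hWc])).symm
    have hP'W : fixSub P' = W := (Subgroup.eq_of_le_of_card_ge (fixSub_anti hP')
      (by rw [hQP'.cardFix, hWc])).symm
    -- then `G` stabilizes a series
    let K : Subgroup (MulAut V) :=
      { carrier := {g | (∀ v ∈ W, g v = v) ∧ ∀ v, g v * v⁻¹ ∈ W}
        one_mem' := ⟨fun v _ => rfl, fun v => by simp⟩
        mul_mem' := fun {a b} ha hb => ⟨fun v hv => by rw [MulAut.mul_apply, hb.1 v hv, ha.1 v hv],
          fun v => by
            have := W.mul_mem (ha.2 (b v)) (hb.2 v)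
            simpa [MulAut.mul_apply, mul_assoc] using this⟩
        inv_mem' := fun {a} ha => ⟨fun v hv => by
            conv_lhs => rw [← ha.1 v hv]
            simp, fun v => by simpa using W.inv_mem (ha.2 (a⁻¹ v))⟩ }
    have hGK : G ≤ K := by
      rw [← hGeq]
      refine sup_le (fun a ha => ⟨fun v hv => ?_, fun v => hPW ▸ hQP.moves a ha v⟩)
        (fun a ha => ⟨fun v hv => ?_, fun v => hP'W ▸ hQP'.moves a ha v⟩)
      · exact (hPW.ge hv : v ∈ fixSub P) a ha
      · exact (hP'W.ge hv : v ∈ fixSub P') a ha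
    have hGp : IsPGroup p G := by
      rintro ⟨g, hg⟩
      obtain ⟨h1, h2⟩ := hGK hg
      refine ⟨k, Subtype.ext (MulEquiv.ext fun v => ?_)⟩
      show (g ^ p ^ k) v = v
      rw [← hk]
      have hiter : ∀ i : ℕ, (g ^ i) v = (g v * v⁻¹) ^ i * v := by
        intro i
        induction i with
        | zero => simp
        | succ i ihh =>
          rw [pow_succ', MulAut.mul_apply, ihh, map_mul, map_pow, h1 _ (h2 v), pow_succ]
          group
      have hone : (g v * v⁻¹) ^ q = 1 := by
        have := congrArg Subtype.val (pow_card_eq_one' (x := (⟨_, h2 v⟩ : W)))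
        rw [hWc] at this
        simpa using this
      rw [hiter, hone, one_mul]
    have hGc := hmax G le_rfl hGp
    exact hne ((Subgroup.eq_of_le_of_card_ge hP (hGc.trans hPc.ge)).trans
      (Subgroup.eq_of_le_of_card_ge hP' (hGc.trans hP'c.ge)).symm)
  -- distinct Sylow subgroups meet trivially
  have hTI : ∀ A B : Subgroup (MulAut V), A ≤ G → B ≤ G → IsPGroup p A → IsPGroup p B →
      Nat.card A = q → Nat.card B = q → ∀ s ∈ A, s ∈ B → s ≠ 1 → A = B := by
    intro A B hA hB hAp hBp hAc hBc s hsA hsB hs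
    by_contra hAB
    refine hproper A hA hAp hAc ?_
    rw [← hpair A B hA hB hAp hBp hAc hBc hAB]
    refine le_inf le_rfl fun v hv => ?_
    exact (hgood B hB hBp hBc).semireg s hsB hs v (hv s hsA)
  have hconjc : ∀ (s : MulAut V) (A : Subgroup (MulAut V)),
      Nat.card (A.map (MulAut.conj s).toMonoidHom) = Nat.card A := fun s A =>
    (Nat.card_congr (A.equivMapOfInjective _ (MulAut.conj s).injective).toEquiv).symm
  have hconjle : ∀ s ∈ G, ∀ A ≤ G, A.map (MulAut.conj s).toMonoidHom ≤ G := by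
    rintro s hs A hA _ ⟨a, ha, rfl⟩
    exact G.mul_mem (G.mul_mem hs (hA ha)) (G.inv_mem hs)
  -- each subgroup acts freely on the others
  have hfree : ∀ A B : Subgroup (MulAut V), A ≤ G → B ≤ G → IsPGroup p A → IsPGroup p B →
      Nat.card A = q → Nat.card B = q → A ≠ B → ∀ s ∈ A, ∀ t ∈ A,
        B.map (MulAut.conj s).toMonoidHom = B.map (MulAut.conj t).toMonoidHom → s = t := by
    intro A B hA hB hAp hBp hAc hBc hAB s hs t ht he
    by_contra hst
    set u := t⁻¹ * s
    have hu : u ∈ A := A.mul_mem (A.inv_mem ht) hs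
    have hu1 : u ≠ 1 := fun h => hst (inv_mul_eq_one.mp h).symm
    have hun : u ∈ Subgroup.normalizer (B : Set (MulAut V)) := by
      refine Subgroup.mem_normalizer_iff.mpr fun b => ⟨fun hb => ?_, fun hb => ?_⟩
      · obtain ⟨c, hc, e⟩ := he.le ⟨b, hb, rfl⟩
        have e' : t * c * t⁻¹ = s * b * s⁻¹ := e
        have : u * b * u⁻¹ = c := by
          calc u * b * u⁻¹ = t⁻¹ * (s * b * s⁻¹) * t := by simp only [u]; group
            _ = c := by rw [← e']; group
        rw [this]
        exact hc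
      · obtain ⟨c, hc, e⟩ := he.ge ⟨_, hb, rfl⟩
        have e' : s * c * s⁻¹ = t * (u * b * u⁻¹) * t⁻¹ := e
        have : b = c := by
          have h2 : s * c * s⁻¹ = s * b * s⁻¹ := by rw [e']; simp only [u]; group
          exact (mul_left_cancel (mul_right_cancel h2)).symm
        rw [this]
        exact hc
    set C := Subgroup.zpowers u
    have hCA : C ≤ A := Subgroup.zpowers_le.mpr hu
    have hle : C ⊔ B ≤ G := sup_le (hCA.trans hA) hB
    have hCB : IsPGroup p (C ⊔ B : Subgroup (MulAut V)) :=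
      (hAp.to_le hCA).to_sup_of_normal_right' hBp (Subgroup.zpowers_le.mpr hun)
    have hB' : B = C ⊔ B := Subgroup.eq_of_le_of_card_ge le_sup_right (hBc ▸ hmax _ hle hCB)
    exact hAB (hTI A B hA hB hAp hBp hAc hBc u hu
      (hB'.ge (Subgroup.mem_sup_left (Subgroup.mem_zpowers u))) hu1)
  -- all subgroups other than `A` form one orbit of `A`
  have horbit : ∀ A B C : Subgroup (MulAut V), A ≤ G → B ≤ G → C ≤ G → IsPGroup p A → IsPGroup p B →
      IsPGroup p C → Nat.card A = q → Nat.card B = q → Nat.card C = q → A ≠ B → C ≠ A →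
        ∃ s ∈ A, C = B.map (MulAut.conj s).toMonoidHom := by
    intro A B C hA hB hC hAp hBp hCp hAc hBc hCc hAB hCA
    by_contra hno
    push Not at hno
    -- `2 * q + 1` fixed groups meeting in `W`
    have hnotA : ∀ s ∈ A, B.map (MulAut.conj s).toMonoidHom ≠ A := by
      intro s hs e
      refine hAB (Subgroup.eq_of_le_of_card_ge (fun b hb => ?_) (by rw [hAc, hBc])).symm
      have hmem : s * b * s⁻¹ ∈ A := e.le ⟨b, hb, rfl⟩
      have := A.mul_mem (A.mul_mem (A.inv_mem hs) hmem) hs
      rwa [show s⁻¹ * (s * b * s⁻¹) * s = b by group] at this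
    have hnotA' : ∀ s ∈ A, C.map (MulAut.conj s).toMonoidHom ≠ A := by
      intro s hs e
      refine hCA (Subgroup.eq_of_le_of_card_ge (fun b hb => ?_) (by rw [hAc, hCc]))
      have hmem : s * b * s⁻¹ ∈ A := e.le ⟨b, hb, rfl⟩
      have := A.mul_mem (A.mul_mem (A.inv_mem hs) hmem) hs
      rwa [show s⁻¹ * (s * b * s⁻¹) * s = b by group] at this
    let idx : Option (A ⊕ A) → Subgroup (MulAut V) := fun i => match i with
      | none => A
      | some (Sum.inl s) => B.map (MulAut.conj (s : MulAut V)).toMonoidHom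
      | some (Sum.inr s) => C.map (MulAut.conj (s : MulAut V)).toMonoidHom
    have hidx : ∀ i, idx i ≤ G ∧ IsPGroup p (idx i) ∧ Nat.card (idx i) = q := by
      rintro (_ | s | s)
      · exact ⟨hA, hAp, hAc⟩
      · exact ⟨hconjle _ (hA s.2) B hB, hBp.map _, (hconjc _ B).trans hBc⟩
      · exact ⟨hconjle _ (hA s.2) C hC, hCp.map _, (hconjc _ C).trans hCc⟩
    have hinj : Function.Injective idx := by
      rintro (_ | s | s) (_ | t | t) he
      · rfl
      · exact absurd he.symm (hnotA t t.2)
      · exact absurd he.symm (hnotA' t t.2)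
      · exact absurd he (hnotA s s.2)
      · rw [Subtype.ext (hfree A B hA hB hAp hBp hAc hBc hAB s s.2 t t.2 he)]
      · exfalso
        refine hno (((t : MulAut V))⁻¹ * s) (A.mul_mem (A.inv_mem t.2) s.2) ?_
        have he' := congrArg (Subgroup.map (MulAut.conj ((t : MulAut V))⁻¹).toMonoidHom) he
        simp only [idx, conj_map_map, inv_mul_cancel, conj_map_one] at he'
        exact he'.symm
      · exact absurd he (hnotA' s s.2)
      · exfalso
        refine hno (((s : MulAut V))⁻¹ * t) (A.mul_mem (A.inv_mem s.2) t.2) ?_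
        have he' := congrArg (Subgroup.map (MulAut.conj ((s : MulAut V))⁻¹).toMonoidHom) he
        simp only [idx, conj_map_map, inv_mul_cancel, conj_map_one] at he'
        exact he'
      · rw [Subtype.ext (hfree A C hA hC hAp hCp hAc hCc hCA.symm s s.2 t t.2 he)]
    -- the points of the fixed groups outside `W`
    let pts : (Σ i, {v : V // v ∈ fixSub (idx i) ∧ v ∉ W}) → V := fun x => x.2.1
    have hpinj : Function.Injective pts := by
      rintro ⟨i, v, hv, hvW⟩ ⟨j, w, hw, hwW⟩ (rfl : v = w)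
      by_cases hij : i = j
      · subst hij; rfl
      · exfalso
        refine hvW ?_
        rw [← hpair _ _ (hidx i).1 (hidx j).1 (hidx i).2.1 (hidx j).2.1 (hidx i).2.2 (hidx j).2.2
          fun e => hij (hinj e)]
        exact ⟨hv, hw⟩
    have hge : ∀ i, q ≤ 2 * Nat.card {v : V // v ∈ fixSub (idx i) ∧ v ∉ W} := by
      intro i
      obtain ⟨h1, h2, h3⟩ := hidx i
      have hle : W ≤ fixSub (idx i) := fixSub_anti h1
      let e : fixSub (idx i) ≃ (W ⊕ {v : V // v ∈ fixSub (idx i) ∧ v ∉ W}) :=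
        { toFun := fun v => if h : (v : V) ∈ W then Sum.inl ⟨v, h⟩ else Sum.inr ⟨v, v.2, h⟩
          invFun := fun v => Sum.elim (fun w : W => ⟨w, hle w.2⟩)
            (fun w : {v : V // v ∈ fixSub (idx i) ∧ v ∉ W} => ⟨w, w.2.1⟩) v
          left_inv := fun v => by by_cases h : (v : V) ∈ W <;> simp [h]
          right_inv := fun v => by
            rcases v with w | w
            · simp [w.2]
            · simp [w.2.2] }
      have hsum := Nat.card_congr e
      rw [Nat.card_sum, (hgood _ h1 h2 h3).cardFix] at hsum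
      have hlt : Nat.card W < q := by
        rw [← (hgood _ h1 h2 h3).cardFix]
        exact lt_of_le_of_ne (Subgroup.card_le_of_le hle) fun e =>
          hproper _ h1 h2 h3 (Subgroup.eq_of_le_of_card_ge hle e.ge).ge
      have hdvd : 2 * Nat.card W ≤ q := by
        have hd := Subgroup.card_dvd_of_le hle
        rw [(hgood _ h1 h2 h3).cardFix] at hd
        obtain ⟨c, hc⟩ := hd
        have hW0 : 0 < Nat.card W := Nat.card_pos
        have : 2 ≤ c := by
          by_contra h
          interval_cases c <;> omega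
        rw [hc]
        nlinarith
      omega
    have hcard := Nat.card_le_card_of_injective pts hpinj
    haveI : Fintype (Option (A ⊕ A)) := Fintype.ofFinite _
    rw [hV, Nat.card_sigma] at hcard
    have hsum : ∑ i : Option (A ⊕ A), q ≤ ∑ i : Option (A ⊕ A),
        2 * Nat.card {v : V // v ∈ fixSub (idx i) ∧ v ∉ W} := Finset.sum_le_sum fun i _ => hge i
    rw [Finset.sum_const, Finset.card_univ, smul_eq_mul, ← Finset.mul_sum,
      ← Nat.card_eq_fintype_card, Finite.card_option, Nat.card_sum, hAc] at hsum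
    nlinarith
  -- the contradiction
  obtain ⟨z, hz, hzW⟩ := SetLike.not_le_iff_exists.mp (hproper P' hP' hP'p hP'c)
  have hcomm : ∀ a b c : V, a * (b * c) = b * (a * c) := fun a b c => by
    rw [← mul_assoc, hab a b, mul_assoc]
  let a : P → fixSub P := fun s => ⟨(s : MulAut V) z * z⁻¹, hQP.moves s s.2 z⟩
  haveI : (W.subgroupOf (fixSub P)).Normal :=
    ⟨fun x hx g => by
      have : g * x * g⁻¹ = x := Subtype.ext (by
        show (g : V) * x * (g : V)⁻¹ = x
        rw [hab (g : V) x, mul_inv_cancel_right])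
      rwa [this]⟩
  have hlt : Nat.card (fixSub P ⧸ W.subgroupOf (fixSub P)) < q := by
    have h1 := Subgroup.card_eq_card_quotient_mul_card_subgroup (W.subgroupOf (fixSub P))
    rw [hQP.cardFix, Nat.card_congr (Subgroup.subgroupOfEquivOfLe (fixSub_anti hP)).toEquiv] at h1
    haveI : Nontrivial W := (Subgroup.nontrivial_iff_ne_bot W).mpr hWne
    have h2 : 1 < Nat.card W := Finite.one_lt_card
    have h3 : 0 < Nat.card (fixSub P ⧸ W.subgroupOf (fixSub P)) := Nat.card_pos
    rw [h1]
    exact lt_mul_of_one_lt_right h3 h2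
  have hnot : ¬ Function.Injective
      (fun s : P => ((a s : fixSub P) : fixSub P ⧸ W.subgroupOf (fixSub P))) := fun h => by
    have := Nat.card_le_card_of_injective _ h
    rw [hQP.card] at this
    omega
  obtain ⟨s₁, s₂, he, hs12⟩ : ∃ s₁ s₂ : P,
      ((a s₁ : fixSub P) : fixSub P ⧸ W.subgroupOf (fixSub P)) = (a s₂ : fixSub P) ∧ s₁ ≠ s₂ := by
    simpa [Function.Injective] using hnot
  rw [QuotientGroup.eq] at he
  set s : MulAut V := (s₁ : MulAut V)⁻¹ * s₂
  have hs : s ∈ P := P.mul_mem (P.inv_mem s₁.2) s₂.2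
  have hs1 : s ≠ 1 := fun h => hs12 (Subtype.ext (inv_mul_eq_one.mp h))
  have hw : s z * z⁻¹ ∈ W := by
    have hfix : ∀ v ∈ fixSub P, (s₁ : MulAut V) v = v := fun v hv => hv _ s₁.2
    have e1 : (s₁ : MulAut V) (s z * z⁻¹) = s z * z⁻¹ := hfix _ (hQP.moves s hs z)
    have e2 : (s₂ : MulAut V) z * z⁻¹ = ((s₁ : MulAut V) z * z⁻¹) * (s z * z⁻¹) := by
      have : (s₂ : MulAut V) z = (s₁ : MulAut V) (s z) := by simp [s]
      conv_rhs => rw [← e1]
      rw [this, map_mul, map_inv]
      rw [hab ((s₁ : MulAut V) z) z⁻¹, mul_assoc, hcomm ((s₁ : MulAut V) z),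
        mul_inv_cancel, mul_one, hab]
    have h4 : (((a s₁)⁻¹ * a s₂ : fixSub P) : V) ∈ W := he
    simp only [a, Subgroup.coe_mul, Subgroup.coe_inv] at h4
    rw [e2, inv_mul_cancel_left] at h4
    exact h4
  have hXne : P'.map (MulAut.conj s).toMonoidHom ≠ P' := fun e => hs1
    (hfree P P' hP hP' hPp hP'p hPc hP'c hne s hs 1 P.one_mem
      (e.trans (conj_map_one P').symm))
  obtain ⟨t, ht, hX⟩ := horbit P' P (P'.map (MulAut.conj s).toMonoidHom) hP' hP
    (hconjle s (hP hs) P' hP') hP'p hPp (hP'p.map _) hP'c hPc ((hconjc s P').trans hP'c) hne.symm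
    (by rwa [ne_eq])
  have hsz : s z ∈ fixSub (P'.map (MulAut.conj s).toMonoidHom) := by
    rintro _ ⟨b, hb, rfl⟩
    show s (b (s⁻¹ (s z))) = s z
    rw [MulAut.inv_apply_self, hz b hb]
  set y := t⁻¹ (s z)
  have hy : y ∈ fixSub P := by
    intro b hb
    have h1 := hsz (t * b * t⁻¹) (hX.ge ⟨b, hb, rfl⟩)
    have h2 := congrArg (fun v => t⁻¹ v) h1
    simpa [MulAut.mul_apply, y] using h2
  have hy' : y ∈ fixSub P' := by
    have hc := hQP'.moves t⁻¹ (P'.inv_mem ht) (s z)
    have hsz' : s z ∈ fixSub P' := by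
      have : s z = (s z * z⁻¹) * z := (inv_mul_cancel_right _ _).symm
      rw [this]
      exact Subgroup.mul_mem _ (fixSub_anti hP' hw) hz
    have := Subgroup.mul_mem _ hc hsz'
    rwa [inv_mul_cancel_right] at this
  have hyW : y ∈ W := hWeq ▸ ⟨hy, hy'⟩
  have hszW : s z ∈ W := by
    have : s z = y := by
      have h1 : t y = y := hy' t ht
      simpa [y] using h1
    rw [this]; exact hyW
  refine hzW ?_
  have := W.mul_mem (W.inv_mem hw) hszW
  simpa using this

end Cfsg.Lib.Fusion.ThreeUni
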