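import Cfsg.Agent.Fusion.ThreeUni.FixedPoints
import Cfsg.Agent.Fusion.AbelianIndexP
import Cfsg.Agent.Fusion.EssentialGen
import Cfsg.Agent.Fusion.Constrained
import Cfsg.Agent.Fusion.EssentialSylow

/-!
Saturated systems over a three-dimensional unitriangular group with a nontrivial normal subgroup are
constrained, hence realizable.
-/

set_option autoImplicit false
set_option linter.style.haveILetI false

namespace Cfsg.Lib.Fusion.ThreeUni

open Cfsg Cfsg.FusionSystem
open scoped commutatorElement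

universe u

/-- The shape of the three-dimensional unitriangular group over a field of order `q`. -/
structure Shape (T : Type*) [Group T] (q : ℕ) : Prop where
  card : Nat.card T = q * q * q
  cardCenter : Nat.card (Subgroup.center T) = q
  comm : ∀ a b : T, ⁅a, b⁆ ∈ Subgroup.center T
  cardCent : ∀ x : T, x ∉ Subgroup.center T → Nat.card (Subgroup.centralizer ({x} : Set T)) = q * q
  abCent : ∀ x : T, x ∉ Subgroup.center T → ∀ a b : T, a * x = x * a → b * x = x * b → a * b = b * a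

/-- A parametrization by triples gives the shape. -/
theorem shape_of_param {T : Type*} [Group T] {K : Type*} [Field K] [Finite K]
    (f : K × K × K → T) (hf : Function.Bijective f)
    (hmul : ∀ a b : K × K × K,
      f a * f b = f (a.1 + b.1, a.2.1 + b.2.1, a.2.2 + b.2.2 + a.1 * b.2.1)) :
    Shape T (Nat.card K) := by
  have hcomm : ∀ a b : K × K × K, f a * f b = f b * f a ↔ a.1 * b.2.1 = b.1 * a.2.1 := by
    intro a b
    rw [hmul, hmul, hf.1.eq_iff, Prod.ext_iff, Prod.ext_iff]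
    constructor
    · rintro ⟨-, -, h⟩
      linear_combination h
    · intro h
      exact ⟨add_comm _ _, add_comm _ _, by linear_combination h⟩
  have hcen : ∀ a : K × K × K, f a ∈ Subgroup.center T ↔ a.1 = 0 ∧ a.2.1 = 0 := by
    intro a
    rw [Subgroup.mem_center_iff]
    constructor
    · intro h
      have h1 := (hcomm (1, 0, 0) a).mp (h _)
      have h2 := (hcomm (0, 1, 0) a).mp (h _)
      constructor
      · linear_combination -h2
      · linear_combination h1
    · rintro ⟨h1, h2⟩ g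
      obtain ⟨b, rfl⟩ := hf.2 g
      exact (hcomm b a).mpr (by rw [h1, h2]; ring)
  refine ⟨?_, ?_, fun a b => ?_, fun x hx => ?_, fun x hx a b ha hb => ?_⟩
  · rw [← Nat.card_congr (Equiv.ofBijective f hf), Nat.card_prod, Nat.card_prod, mul_assoc]
  · rw [Nat.card_congr (Equiv.ofBijective (fun c : K => (⟨f (0, 0, c), (hcen _).mpr ⟨rfl, rfl⟩⟩ :
      Subgroup.center T)) ⟨fun c d h => by simpa using hf.1 (congrArg Subtype.val h), fun t => ?_⟩)]
    obtain ⟨⟨a, b, c⟩, hd⟩ := hf.2 (t : T)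
    obtain ⟨h1, h2⟩ := (hcen _).mp (hd ▸ t.2 : f (a, b, c) ∈ Subgroup.center T)
    simp only at h1 h2
    subst h1 h2
    exact ⟨c, Subtype.ext hd⟩
  · obtain ⟨a, rfl⟩ := hf.2 a
    obtain ⟨b, rfl⟩ := hf.2 b
    obtain ⟨c, hc⟩ := hf.2 ⁅f a, f b⁆
    rw [← hc, hcen]
    have h : f c * (f b * f a) = f a * f b := by rw [hc, commutatorElement_def]; group
    rw [hmul b a, hmul, hmul a b, hf.1.eq_iff, Prod.ext_iff, Prod.ext_iff] at h
    simp only at h
    exact ⟨by linear_combination h.1, by linear_combination h.2.1⟩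
  · obtain ⟨⟨u, v, w⟩, rfl⟩ := hf.2 x
    have hne : u ≠ 0 ∨ v ≠ 0 := by
      by_contra h
      push Not at h
      exact hx ((hcen _).mpr h)
    have key : ∀ d : K × K × K, f d ∈ Subgroup.centralizer ({f (u, v, w)} : Set T) ↔ d.1 * v = u * d.2.1 := by
      intro d
      rw [Subgroup.mem_centralizer_singleton_iff]
      exact hcomm d (u, v, w)
    rw [← Nat.card_prod]
    refine (Nat.card_congr (Equiv.ofBijective (fun c : K × K =>
      (⟨f (c.1 * u, c.1 * v, c.2), (key _).mpr (by ring)⟩ :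
        Subgroup.centralizer ({f (u, v, w)} : Set T))) ⟨fun c d h => ?_, fun t => ?_⟩)).symm
    · have h' := hf.1 (congrArg Subtype.val h)
      simp only [Prod.ext_iff] at h'
      obtain ⟨h1, h2, h3⟩ := h'
      refine Prod.ext ?_ h3
      rcases hne with h | h
      · exact mul_right_cancel₀ h h1
      · exact mul_right_cancel₀ h h2
    · obtain ⟨⟨a, b, c⟩, hd⟩ := hf.2 (t : T)
      have hk := (key (a, b, c)).mp (hd ▸ t.2)
      simp only at hk
      rcases hne with h | h
      · refine ⟨(a / u, c), Subtype.ext ?_⟩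
        show f (a / u * u, a / u * v, c) = _
        rw [← hd, div_mul_cancel₀ a h, show a / u * v = b by field_simp; linear_combination hk]
      · refine ⟨(b / v, c), Subtype.ext ?_⟩
        show f (b / v * u, b / v * v, c) = _
        rw [← hd, div_mul_cancel₀ b h, show b / v * u = a by field_simp; linear_combination -hk]
  · obtain ⟨⟨u, v, w⟩, rfl⟩ := hf.2 x
    obtain ⟨a, rfl⟩ := hf.2 a
    obtain ⟨b, rfl⟩ := hf.2 b
    have h1 := (hcomm _ _).mp ha
    have h2 := (hcomm _ _).mp hb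
    simp only at h1 h2
    rw [hcomm]
    by_cases hu : u = 0
    · subst hu
      have hv : v ≠ 0 := fun hv => hx ((hcen _).mpr ⟨rfl, hv⟩)
      have e1 : a.1 = 0 := by simpa [hv] using h1
      have e2 : b.1 = 0 := by simpa [hv] using h2
      rw [e1, e2]
      ring
    · exact mul_left_cancel₀ hu (by linear_combination b.1 * h1 - a.1 * h2)

variable {Ω : Type u} [Group Ω] {S : Subgroup Ω} {p : ℕ}

/-- With a nontrivial normal subgroup, a saturated system over such a group is realizable. -/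
theorem realizable_of_core [Finite S] [Fact p.Prime] (hS : IsPGroup p S) {F : FusionSystem S}
    (hF : F.IsSaturated p) {q : ℕ} (hT : Shape S q) (hcore : F.core ≠ ⊥) : F.IsRealizable p := by
  classical
  suffices h : ∃ U : Subgroup Ω, F.IsNormal U ∧ F.IsCentric U by
    obtain ⟨U, hU, hc⟩ := h
    obtain ⟨G, hG, ι, ⟨hfin, hreal, hsyl, -⟩, -, -⟩ := exists_isModel hS hF hU hc
    exact ⟨G, hG, hfin, ι, hreal, hsyl⟩
  set Q := F.core
  have hQn : F.IsNormal Q := isNormal_core
  haveI := finite_of_le hQn.1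
  by_cases hex : ∃ E, F.IsEssential p E
  swap
  · refine ⟨S, isNormal_of_essential hS hF le_rfl Subgroup.le_normalizer (fun φ _ x _ => (φ x).2)
      fun P _ hP => absurd ⟨P, hP⟩ hex, le_rfl, fun R hR => ?_⟩
    obtain ⟨φ, hφ, e⟩ := hR
    obtain ⟨h1, h2⟩ := F.le_of_mem hφ
    have hRS : R = S := by
      rw [← e]
      refine Subgroup.eq_of_le_of_card_ge (fun y ⟨x, hx⟩ => hx ▸ h2 x) ?_
      exact (Nat.card_congr (MonoidHom.ofInjective (F.injective_of_mem hφ)).toEquiv).le
    rw [hRS]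
    exact inf_le_left
  set Zc := (Subgroup.center S).map S.subtype
  have hqpos : 0 < q := hT.cardCenter ▸ Nat.card_pos
  have hq : ∃ k, q = p ^ k := by
    obtain ⟨k, hk⟩ := IsPGroup.iff_card.mp (hS.to_subgroup (Subgroup.center S))
    exact ⟨k, hT.cardCenter ▸ hk⟩
  have hZmem : ∀ z, z ∈ Zc ↔ z ∈ S ∧ ∀ s ∈ S, s * z = z * s := by
    intro z
    constructor
    · rintro ⟨w, hw, rfl⟩
      exact ⟨w.2, fun s hs => congrArg Subtype.val (Subgroup.mem_center_iff.mp hw ⟨s, hs⟩)⟩
    · rintro ⟨hz, h⟩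
      exact ⟨⟨z, hz⟩, Subgroup.mem_center_iff.mpr fun g => Subtype.ext (h g g.2), rfl⟩
  have hcommS : ∀ a ∈ S, ∀ b ∈ S, a * b * a⁻¹ * b⁻¹ ∈ Zc := by
    intro a ha b hb
    exact ⟨⁅(⟨a, ha⟩ : S), ⟨b, hb⟩⁆, hT.comm _ _, by simp [commutatorElement_def]⟩
  -- the structure of an essential subgroup
  have hess : ∀ E, F.IsEssential p E → Zc ≤ E ∧ S ≤ Subgroup.normalizer (E : Set Ω) ∧
      ∃ x ∈ E, x ∉ Zc ∧ ∀ y, y ∈ E ↔ y ∈ S ∧ y * x = x * y := by
    intro E hE
    have hrad := radical_of_stronglyEmbedded hS hE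
    have hEc : F.IsCentric E := hE.1
    have hES := hEc.1
    haveI := finite_of_le hES
    have hcen : centralizerIn S E ≤ E := hEc.2 E (isConj_refl hES)
    have hZE : Zc ≤ E := fun z hz => hcen (mem_centralizerIn.mpr ⟨((hZmem z).mp hz).1, fun e he => by
      rw [← ((hZmem z).mp hz).2 e (hES he), mul_inv_cancel_right]⟩)
    have hnorm : S ≤ Subgroup.normalizer (E : Set Ω) := fun s hs =>
      mem_normalizer_of_maps_finite fun y hy => by
        have h := E.mul_mem (hZE (hcommS s hs y (hES hy))) hy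
        rwa [inv_mul_cancel_right] at h
    refine ⟨hZE, hnorm, ?_⟩
    have hnZ : ¬ E ≤ Zc := by
      intro hle
      have h1 : S ≤ E := fun s hs => hcen (mem_centralizerIn.mpr ⟨hs, fun e he => by
        rw [((hZmem e).mp (hle he)).2 s hs, mul_inv_cancel_right]⟩)
      exact (EssentialGen.lt_of_essential hS hF hE).not_ge h1
    by_cases hab : ∀ a ∈ E, ∀ b ∈ E, a * b = b * a
    · obtain ⟨x, hxE, hxZ⟩ := SetLike.not_le_iff_exists.mp hnZ
      have hxS := hES hxE
      have hxc : (⟨x, hxS⟩ : S) ∉ Subgroup.center S := fun h => hxZ ⟨⟨x, hxS⟩, h, rfl⟩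
      refine ⟨x, hxE, hxZ, fun y => ⟨fun hy => ⟨hES hy, hab y hy x hxE⟩, fun ⟨hyS, hyx⟩ => ?_⟩⟩
      refine hcen (mem_centralizerIn.mpr ⟨hyS, fun e he => ?_⟩)
      have h := hT.abCent ⟨x, hxS⟩ hxc ⟨y, hyS⟩ ⟨e, hES he⟩ (Subtype.ext hyx)
        (Subtype.ext (hab e he x hxE))
      rw [show y * e = e * y from congrArg Subtype.val h, mul_inv_cancel_right]
    · exfalso
      -- the centre of `E` is the centre of `S`
      have hZeq : ∀ z ∈ E, (∀ e ∈ E, e * z = z * e) → z ∈ Zc := by
        intro z hz hzc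
        by_contra hzZ
        have hzc' : (⟨z, hES hz⟩ : S) ∉ Subgroup.center S := fun h => hzZ ⟨⟨z, hES hz⟩, h, rfl⟩
        refine hab fun a ha b hb => ?_
        exact congrArg Subtype.val (hT.abCent _ hzc' ⟨a, hES ha⟩ ⟨b, hES hb⟩
          (Subtype.ext (hzc a ha)) (Subtype.ext (hzc b hb)))
      let K₀ : Subgroup (MulAut E) :=
        { carrier := {β | (∀ z : E, (z : Ω) ∈ Zc → β z = z) ∧ ∀ e : E, ((β e * e⁻¹ : E) : Ω) ∈ Zc}
          one_mem' := ⟨fun z _ => rfl, fun e => by simp [Zc.one_mem]⟩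
          mul_mem' := fun {a b} ha hb => ⟨fun z hz => by rw [MulAut.mul_apply, hb.1 z hz, ha.1 z hz],
            fun e => by
              have := Zc.mul_mem (ha.2 (b e)) (hb.2 e)
              simpa [MulAut.mul_apply, mul_assoc] using this⟩
          inv_mem' := fun {a} ha => ⟨fun z hz => by
              conv_lhs => rw [← ha.1 z hz]
              simp, fun e => by simpa using Zc.inv_mem (ha.2 (a⁻¹ e))⟩ }
      have hchar : ∀ (α : MulAut E) (z : E), (z : Ω) ∈ Zc → ((α z : E) : Ω) ∈ Zc := by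
        intro α z hz
        refine hZeq _ (α z).2 fun e he => ?_
        have hc : α.symm ⟨e, he⟩ * z = z * α.symm ⟨e, he⟩ :=
          Subtype.ext (((hZmem _).mp hz).2 _ (hES (α.symm ⟨e, he⟩).2))
        have := congrArg α hc
        rw [map_mul, map_mul, MulEquiv.apply_symm_apply] at this
        exact congrArg Subtype.val this
      refine (EssentialGen.lt_of_essential hS hF hE).not_ge
        (le_of_radical hS le_rfl Subgroup.le_normalizer hEc hrad (K₀ ⊓ F.autGroup E) ?_ inf_le_right ?_ ?_)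
      · intro α hα β hβ
        refine ⟨⟨fun z hz => ?_, fun e => ?_⟩, Subgroup.mul_mem _ (Subgroup.mul_mem _ hα hβ.2)
          (Subgroup.inv_mem _ hα)⟩
        · rw [MulAut.mul_apply, MulAut.mul_apply, hβ.1.1 _ (hchar α⁻¹ z hz), MulAut.apply_inv_self]
        · have h := hchar α _ (hβ.1.2 (α⁻¹ e))
          rw [map_mul, map_inv, MulAut.apply_inv_self] at h
          simpa [MulAut.mul_apply] using h
      · rintro ⟨β, ⟨h1, h2⟩, hβ⟩
        obtain ⟨m, hm⟩ := IsPGroup.iff_card.mp (hS.to_le hES)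
        refine ⟨m, Subtype.ext (MulEquiv.ext fun e => ?_)⟩
        show (β ^ p ^ m) e = e
        have hiter : ∀ i : ℕ, (β ^ i) e = (β e * e⁻¹) ^ i * e := by
          intro i
          induction i with
          | zero => simp
          | succ i ihh =>
            rw [pow_succ', MulAut.mul_apply, ihh, map_mul, map_pow, h1 _ (h2 e), pow_succ]
            group
        rw [hiter, ← hm, pow_card_eq_one', one_mul]
      · intro g hg hgn
        refine ⟨⟨fun z hz => Subtype.ext ?_, fun e => ?_⟩, autInducedBy_le hES (conjAut_mem_autInducedBy hgn hg)⟩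
        · rw [conjAut_apply, ((hZmem _).mp hz).2 g hg, mul_inv_cancel_right]
        · show (conjAut E g hgn e : Ω) * (e : Ω)⁻¹ ∈ Zc
          rw [conjAut_apply]
          exact hcommS g hg e (hES e.2)
  obtain ⟨E₀, hE₀⟩ := hex
  obtain ⟨hZE₀, hnE₀, x₀, hx₀E, hx₀Z, hmem₀⟩ := hess E₀ hE₀
  have hQle : ∀ E, F.IsEssential p E → Q ≤ E := fun E hE =>
    le_radical_of_isNormal hS hQn hE.1 (radical_of_stronglyEmbedded hS hE)
  -- the core is not central
  have hQZ : ¬ Q ≤ Zc := by
    intro hle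
    set E := E₀
    have hES := hE₀.1.1
    haveI := finite_of_le hES
    haveI : Finite (MulAut E) :=
      Finite.of_injective (fun f : MulAut E => (f : E → E)) DFunLike.coe_injective
    have habΩ : ∀ a ∈ E, ∀ b ∈ E, a * b = b * a := fun a ha b hb =>
      congrArg Subtype.val (hT.abCent ⟨x₀, hES hx₀E⟩
        (fun h => hx₀Z ⟨⟨x₀, hES hx₀E⟩, h, rfl⟩) ⟨a, hES ha⟩ ⟨b, hES hb⟩
        (Subtype.ext ((hmem₀ a).mp ha).2) (Subtype.ext ((hmem₀ b).mp hb).2))
    have hab : ∀ a b : E, a * b = b * a := fun a b => Subtype.ext (habΩ a a.2 b b.2)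
    -- centralizers of noncentral elements of `E`
    have hfull : ∀ y ∈ E, y ∉ Zc → ∀ g ∈ S, g * y = y * g → g ∈ E := by
      intro y hy hyZ g hg hgy
      refine (hmem₀ g).mpr ⟨hg, ?_⟩
      exact congrArg Subtype.val (hT.abCent ⟨y, hES hy⟩ (fun h => hyZ ⟨⟨y, hES hy⟩, h, rfl⟩)
        ⟨g, hg⟩ ⟨x₀, hES hx₀E⟩ (Subtype.ext hgy)
        (Subtype.ext (habΩ x₀ hx₀E y hy)))
    have hEcard : Nat.card E = q * q := by
      rw [← hT.cardCent ⟨x₀, hES hx₀E⟩ fun h => hx₀Z ⟨⟨x₀, hES hx₀E⟩, h, rfl⟩]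
      refine Nat.card_congr
        { toFun := fun y => ⟨⟨y, hES y.2⟩, Subgroup.mem_centralizer_singleton_iff.mpr
            (Subtype.ext ((hmem₀ y).mp y.2).2)⟩
          invFun := fun y => ⟨y.1, (hmem₀ _).mpr ⟨y.1.2, congrArg Subtype.val
            (Subgroup.mem_centralizer_singleton_iff.mp y.2)⟩⟩
          left_inv := fun _ => rfl
          right_inv := fun _ => rfl }
    let ψ : S →* MulAut E :=
      { toFun := fun s => conjAut E s (hnE₀ s.2)
        map_one' := MulEquiv.ext fun e => Subtype.ext (by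
          show ((1 : S) : Ω) * e * (((1 : S) : Ω))⁻¹ = e
          simp)
        map_mul' := fun s t => MulEquiv.ext fun e => Subtype.ext (by
          show ((s * t : S) : Ω) * e * (((s * t : S) : Ω))⁻¹ = s * (t * e * (t : Ω)⁻¹) * (s : Ω)⁻¹
          rw [Subgroup.coe_mul]
          group) }
    have hψapp : ∀ (s : S) (e : E), ((ψ s e : E) : Ω) = s * e * (s : Ω)⁻¹ := fun s e => rfl
    set P := autInducedBy S E
    have hrange : P = ψ.range := by
      ext α
      rw [mem_autInducedBy]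
      constructor
      · rintro ⟨g, hg, e⟩
        exact ⟨⟨g, hg⟩, MulEquiv.ext fun x => Subtype.ext ((hψapp ⟨g, hg⟩ x).trans (e x).symm)⟩
      · rintro ⟨g, rfl⟩
        exact ⟨g, g.2, fun x => hψapp g x⟩
    have hker : ∀ s : S, s ∈ ψ.ker ↔ (s : Ω) ∈ E := by
      intro s
      rw [MonoidHom.mem_ker]
      constructor
      · intro h
        refine (hmem₀ _).mpr ⟨s.2, ?_⟩
        have h1 := hψapp s ⟨x₀, hx₀E⟩
        rw [h] at h1
        exact (eq_mul_inv_iff_mul_eq.mp h1).symm
      · intro h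
        refine MulEquiv.ext fun e => Subtype.ext ?_
        rw [hψapp, habΩ (s : Ω) h e e.2, mul_inv_cancel_right]
        rfl
    have hPc : Nat.card P = q := by
      have h1 := Subgroup.card_eq_card_quotient_mul_card_subgroup ψ.ker
      have hk : Nat.card ψ.ker = Nat.card E := Nat.card_congr
        { toFun := fun s => ⟨s.1, (hker s.1).mp s.2⟩
          invFun := fun e => ⟨⟨e, hES e.2⟩, (hker _).mpr e.2⟩
          left_inv := fun _ => rfl
          right_inv := fun _ => rfl }
      rw [hk, hEcard, hT.card, Nat.card_congr (QuotientGroup.quotientKerEquivRange ψ).toEquiv,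
        ← hrange, mul_assoc] at h1
      exact (Nat.eq_of_mul_eq_mul_right (Nat.mul_pos hqpos hqpos) h1).symm
    have hPle : P ≤ F.autGroup E := autInducedBy_le hES
    have hfixeq : ∀ v : E, v ∈ fixSub P ↔ (v : Ω) ∈ Zc := by
      intro v
      constructor
      · intro hv
        by_contra hvZ
        -- all of `S` would centralize `v`
        have hall : ∀ s ∈ S, s ∈ E := fun s hs => by
          refine hfull v v.2 hvZ s hs ?_
          have h1 := hψapp ⟨s, hs⟩ v
          rw [hv (ψ ⟨s, hs⟩) (hrange ▸ ⟨_, rfl⟩)] at h1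
          exact (eq_mul_inv_iff_mul_eq.mp h1).symm
        exact (EssentialGen.lt_of_essential hS hF hE₀).not_ge hall
      · intro hv α hα
        obtain ⟨g, hg, e⟩ := mem_autInducedBy.mp hα
        exact Subtype.ext (by rw [e, ((hZmem _).mp hv).2 g hg, mul_inv_cancel_right])
    have hquadP : Quad q P := by
      refine ⟨hPc, ?_, fun α hα hα1 v hv => ?_, fun α hα v => ?_⟩
      · rw [← hT.cardCenter, Nat.card_congr ((Subgroup.center S).equivMapOfInjective S.subtype
          S.subtype_injective).toEquiv]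
        exact Nat.card_congr
          { toFun := fun v => ⟨v.1, (hfixeq v.1).mp v.2⟩
            invFun := fun z => ⟨⟨z, hZE₀ z.2⟩, (hfixeq _).mpr z.2⟩
            left_inv := fun _ => rfl
            right_inv := fun _ => rfl }
      · rw [hfixeq]
        by_contra hvZ
        obtain ⟨s, rfl⟩ := hrange ▸ hα
        refine hα1 ((hker s).mpr (hfull v v.2 hvZ s s.2 ?_))
        have h1 := hψapp s v
        rw [hv] at h1
        exact (eq_mul_inv_iff_mul_eq.mp h1).symm
      · obtain ⟨g, hg, e⟩ := mem_autInducedBy.mp hα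
        rw [hfixeq, Subgroup.coe_mul, Subgroup.coe_inv, e]
        exact hcommS g hg v (hES v.2)
    obtain ⟨-, Rs, hRs⟩ := (fullyNormalized_props hS hF hE₀.2.1).2.1
    have hconj : ∀ A ≤ F.autGroup E, IsPGroup p A →
        ∃ g ∈ F.autGroup E, A ≤ P.map (MulAut.conj g).toMonoidHom := by
      intro A hA hAp
      obtain ⟨R, hR⟩ := (hAp.of_injective (Subgroup.subgroupOfEquivOfLe hA).toMonoidHom
        (Subgroup.subgroupOfEquivOfLe hA).injective).exists_le_sylow
      obtain ⟨g, rfl⟩ := MulAction.exists_smul_eq (F.autGroup E) Rs R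
      refine ⟨g, g.2, fun a ha => ?_⟩
      have h1 : (⟨a, hA ha⟩ : F.autGroup E) ∈ ((g • Rs : Sylow p _) : Subgroup _) := hR ha
      rw [Sylow.coe_subgroup_smul] at h1
      obtain ⟨c, hc, e⟩ := h1
      rw [hRs] at hc
      exact ⟨c, hc, congrArg Subtype.val e⟩
    have hcardconj : ∀ g : MulAut E, Nat.card (P.map (MulAut.conj g).toMonoidHom) = q := fun g =>
      ((Nat.card_congr (P.equivMapOfInjective _ (MulAut.conj g).injective).toEquiv).symm).trans hPc
    have hmax : ∀ A ≤ F.autGroup E, IsPGroup p A → Nat.card A ≤ q := fun A hA hAp => by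
      obtain ⟨g, -, hle'⟩ := hconj A hA hAp
      exact (Subgroup.card_le_of_le hle').trans (hcardconj g).le
    have hfixconj : ∀ (g : MulAut E) (v : E),
        v ∈ fixSub (P.map (MulAut.conj g).toMonoidHom) ↔ g⁻¹ v ∈ fixSub P := by
      intro g v
      constructor
      · intro h a ha
        have h1 := h _ ⟨a, ha, rfl⟩
        have h2 := congrArg (fun w => g⁻¹ w) h1
        simpa [MulAut.mul_apply] using h2
      · rintro h _ ⟨a, ha, rfl⟩
        show g (a (g⁻¹ v)) = v
        rw [h a ha, MulAut.apply_inv_self]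
    have hgood : ∀ A ≤ F.autGroup E, IsPGroup p A → Nat.card A = q → Quad q A := by
      intro A hA hAp hAc
      obtain ⟨g, -, hle'⟩ := hconj A hA hAp
      have e := Subgroup.eq_of_le_of_card_ge hle' (by rw [hcardconj, hAc])
      subst e
      refine ⟨hAc, ?_, ?_, ?_⟩
      · rw [← hquadP.cardFix]
        exact Nat.card_congr
          { toFun := fun v => ⟨g⁻¹ v.1, (hfixconj g v.1).mp v.2⟩
            invFun := fun v => ⟨g v.1, (hfixconj g _).mpr (by rw [MulAut.inv_apply_self]; exact v.2)⟩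
            left_inv := fun v => Subtype.ext (MulEquiv.apply_symm_apply g v.1)
            right_inv := fun v => Subtype.ext (MulEquiv.symm_apply_apply g v.1) }
      · rintro _ ⟨a, ha, rfl⟩ hne v hv
        rw [hfixconj]
        refine hquadP.semireg a ha (fun h => hne (by rw [h, map_one])) _ ?_
        have h2 := congrArg (fun w => g⁻¹ w) hv
        simpa [MulAut.mul_apply] using h2
      · rintro _ ⟨a, ha, rfl⟩ v
        rw [hfixconj]
        have := hquadP.moves a ha (g⁻¹ v)
        simpa [MulAut.mul_apply, map_mul] using this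
    obtain ⟨R₁, R₂, hR12⟩ := exists_two_sylow_of_essential hS hE₀
    obtain ⟨R, hR⟩ : ∃ R : Sylow p (F.autGroup E), R ≠ Rs := by
      by_contra h
      push Not at h
      exact hR12 ((h R₁).trans (h R₂).symm)
    obtain ⟨g, rfl⟩ := MulAction.exists_smul_eq (F.autGroup E) Rs R
    set P' := P.map (MulAut.conj (g : MulAut E)).toMonoidHom
    have hP'le : P' ≤ F.autGroup E := by
      rintro _ ⟨a, ha, rfl⟩
      exact Subgroup.mul_mem _ (Subgroup.mul_mem _ g.2 (hPle ha)) (Subgroup.inv_mem _ g.2)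
    have hne : P ≠ P' := by
      intro h
      refine hR (Sylow.ext (Subgroup.eq_of_le_of_card_ge ?_ ?_))
      · rw [Sylow.coe_subgroup_smul, hRs]
        rintro _ ⟨a, ha, rfl⟩
        exact Subgroup.mem_subgroupOf.mpr (h.ge ⟨_, Subgroup.mem_subgroupOf.mp ha, rfl⟩)
      · rw [(g • Rs).card_eq_multiplicity, Rs.card_eq_multiplicity]
    have hPp : IsPGroup p P := isPGroup_autInducedBy hS E
    have hbot := eq_bot_of_two p hab hEcard hq _ (F.autGroup E) rfl hmax hgood P P' hPle hP'le hPp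
      (hPp.map _) hPc (hcardconj _) hne
    refine hcore (le_bot_iff.mp fun v hv => ?_)
    have hvE : v ∈ E := hZE₀ (hle hv)
    obtain ⟨k, hk, hkf, hki⟩ := extend_of_isNormal hQn
      ((isMap_autFun hES).mpr (Subgroup.inv_mem _ g.2))
    have h1 : (((g : MulAut E)⁻¹ ⟨v, hvE⟩ : E) : Ω) ∈ Q := by
      rw [← autFun_apply ((g : MulAut E)⁻¹) ⟨v, hvE⟩]
      show autFun ((g : MulAut E)⁻¹) v ∈ Q
      rw [← hkf v hvE]
      exact IsMap.img_le_iff.mp hki.le v hv
    have h2 : (⟨v, hvE⟩ : E) ∈ fixSub P ⊓ fixSub P' :=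
      ⟨(hfixeq _).mpr (hle hv), (hfixconj _ _).mpr ((hfixeq _).mpr (hle h1))⟩
    rw [hbot, Subgroup.mem_bot] at h2
    exact Subgroup.mem_bot.mpr (congrArg Subtype.val h2)
  obtain ⟨x, hxQ, hxZ⟩ := SetLike.not_le_iff_exists.mp hQZ
  have hxS := hQn.1 hxQ
  have hxc : (⟨x, hxS⟩ : S) ∉ Subgroup.center S := fun h => hxZ ⟨⟨x, hxS⟩, h, rfl⟩
  have hEeq : ∀ E, F.IsEssential p E → ∀ y, y ∈ E ↔ y ∈ S ∧ y * x = x * y := by
    intro E hE y
    obtain ⟨-, -, w, hwE, hwZ, hmem⟩ := hess E hE
    have hxw := ((hmem x).mp (hQle E hE hxQ)).2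
    have hwS := hE.1.1 hwE
    constructor
    · intro hy
      obtain ⟨hyS, hyw⟩ := (hmem y).mp hy
      exact ⟨hyS, congrArg Subtype.val (hT.abCent ⟨w, hwS⟩ (fun h => hwZ ⟨⟨w, hwS⟩, h, rfl⟩)
        ⟨y, hyS⟩ ⟨x, hxS⟩ (Subtype.ext hyw) (Subtype.ext hxw))⟩
    · rintro ⟨hyS, hyx⟩
      exact (hmem y).mpr ⟨hyS, congrArg Subtype.val
        (hT.abCent ⟨x, hxS⟩ hxc ⟨y, hyS⟩ ⟨w, hwS⟩ (Subtype.ext hyx) (Subtype.ext hxw.symm))⟩
  have huniq : ∀ E, F.IsEssential p E → E = E₀ := fun E hE =>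
    SetLike.ext fun y => (hEeq E hE y).trans (hEeq E₀ hE₀ y).symm
  refine ⟨E₀, isNormal_of_essential hS hF hE₀.1.1 hnE₀ (fun φ hφ y hy => ?_)
    (fun P _ hP => ?_), hE₀.1⟩
  · obtain ⟨hyS, hyx⟩ := (hEeq E₀ hE₀ y).mp hy
    have hφx : ((φ ⟨x, hxS⟩ : S) : Ω) ∈ Q := by
      obtain ⟨k, hk, hkf, hki⟩ := extend_of_isNormal hQn ((isMap_autFun le_rfl).mpr hφ)
      rw [← autFun_apply φ ⟨x, hxS⟩]
      show autFun φ x ∈ Q
      rw [← hkf x hxS]
      exact IsMap.img_le_iff.mp hki.le x hxQ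
    have hφxc : φ ⟨x, hxS⟩ ∉ Subgroup.center S := fun h => by
      refine hxc (Subgroup.mem_center_iff.mpr fun g => ?_)
      have h1 := Subgroup.mem_center_iff.mp h (φ g)
      rw [← map_mul, ← map_mul] at h1
      exact φ.injective h1
    obtain ⟨-, hc⟩ := (hEeq E₀ hE₀ _).mp (hQle E₀ hE₀ hφx)
    refine (hEeq E₀ hE₀ _).mpr ⟨(φ y).2, ?_⟩
    have h2 : φ y * φ ⟨x, hxS⟩ = φ ⟨x, hxS⟩ * φ y := by
      rw [← map_mul, ← map_mul, show y * (⟨x, hxS⟩ : S) = ⟨x, hxS⟩ * y from Subtype.ext hyx]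
    exact congrArg Subtype.val (hT.abCent _ hφxc (φ y) ⟨x, hxS⟩ h2 (Subtype.ext hc.symm))
  · obtain rfl := huniq P hP
    exact ⟨le_rfl, fun α _ y _ => (α y).2⟩

end Cfsg.Lib.Fusion.ThreeUni
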